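import Groth.Agent.Sga7.H5.AbCurve
import Groth.Agent.Sga7.H751.PowEtale
import Groth.Agent.S1866
import Groth.Agent.Desc.LQF
import Mathlib.AlgebraicGeometry.Group.Smooth
import Mathlib.AlgebraicGeometry.Group.Abelian
import Mathlib.AlgebraicGeometry.ZariskisMainTheorem

/-!
# Curves in abelian varieties

`exists_curve_av`: an abelian variety `A` of positive dimension over an infinite field `K` contains a smooth
proper geometrically integral curve `C` such that, for every separably closed extension `Ω` and every `n`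
invertible in `K`, the inverse image of `C_Ω` by multiplication by `n` is connected.
-/

set_option autoImplicit false
universe u

open CategoryTheory AlgebraicGeometry Limits TopologicalSpace Opposite MonObj

namespace Groth.Agent.Sga7.H5.AVCurve

open Groth.Agent.Sga7.H5.HypConn Groth.Agent.Sga7.H5.AbCurve

variable {K : Type u} [Field K]

section Pow

variable (A : Over (Spec (CommRingCat.of K))) [GrpObj A] [IsProper A.hom] [GeometricallyIntegral A.hom]

theorem smooth_hom : Smooth A.hom := by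
  have : GrpObj (Over.mk A.hom) := inferInstanceAs (GrpObj A)
  exact smooth_of_grpObj A.hom

theorem natCast_residueField_ne_zero {n : ℕ} (hn : (n : K) ≠ 0) (s : Spec (CommRingCat.of K)) :
    (n : (Spec (CommRingCat.of K)).residueField s) ≠ 0 := by
  have φ : CommRingCat.of K ⟶ (Spec (CommRingCat.of K)).residueField s :=
    Spec.preimage ((Spec (CommRingCat.of K)).fromSpecResidueField s)
  intro h
  apply hn
  apply φ.hom.injective
  rw [map_natCast, map_zero]
  exact h

theorem etale_pow [IsCommMonObj A] {n : ℕ} (hn : (n : K) ≠ 0) : Etale (𝟙 A ^ n : A ⟶ A).left := by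
  have := smooth_hom A
  exact Groth.Agent.Sga7.H751.PowEtale.etale_pow A n (natCast_residueField_ne_zero hn)

omit [GeometricallyIntegral A.hom] in
theorem isProper_pow (n : ℕ) : IsProper (𝟙 A ^ n : A ⟶ A).left := by
  have h : IsProper ((𝟙 A ^ n : A ⟶ A).left ≫ A.hom) := by
    rw [Over.w]
    infer_instance
  exact IsProper.of_comp _ A.hom

theorem isFinite_pow [IsCommMonObj A] {n : ℕ} (hn : (n : K) ≠ 0) : IsFinite (𝟙 A ^ n : A ⟶ A).left := by
  have := etale_pow A hn
  have := isProper_pow A n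
  have := Groth.Agent.Desc.LQF.of_etale (𝟙 A ^ n : A ⟶ A).left
  exact IsFinite.of_isProper_of_locallyQuasiFinite _

theorem surjective_pow [IsCommMonObj A] {n : ℕ} (hn : (n : K) ≠ 0) : Surjective (𝟙 A ^ n : A ⟶ A).left := by
  have h1 := etale_pow A hn
  have h2 := isProper_pow A n
  have hint : IsIntegral A.left := GeometricallyIntegral.isIntegral_of_subsingleton A.hom
  constructor
  have h3 : IsClopen (Set.range (𝟙 A ^ n : A ⟶ A).left) :=
    ⟨(𝟙 A ^ n : A ⟶ A).left.isClosedMap.isClosed_range, (𝟙 A ^ n : A ⟶ A).left.isOpenMap.isOpen_range⟩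
  rcases isClopen_iff.mp h3 with h | h
  · exact absurd h (Set.range_nonempty _).ne_empty
  · exact Set.range_eq_univ.mp h

end Pow

/-- `[n]⁻¹(C_Ω)` is connected. -/
theorem connectedSpace_cover (A : Over (Spec (CommRingCat.of K))) [GrpObj A] [IsCommMonObj A] [IsProper A.hom]
    [GeometricallyIntegral A.hom] {C : Scheme.{u}} {c : C ⟶ A.left} (h : CarriesPiOneSep A.hom c)
    (Ω : Type u) [Field Ω] [Algebra K Ω] [IsSepClosed Ω] {n : ℕ} (hn : (n : K) ≠ 0) :
    ConnectedSpace ↥(pullback (pullback.fst (c ≫ A.hom) (Spec.map (CommRingCat.ofHom (algebraMap K Ω))) ≫ c)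
      (𝟙 A ^ n : A ⟶ A).left) := by
  let s : Spec (CommRingCat.of Ω) ⟶ Spec (CommRingCat.of K) := Spec.map (CommRingCat.ofHom (algebraMap K Ω))
  let XL := pullback A.hom s
  let p : XL ⟶ A.left := pullback.fst _ _
  let q : XL ⟶ Spec (CommRingCat.of Ω) := pullback.snd _ _
  have hpb : IsPullback p q A.hom s := IsPullback.of_hasPullback _ _
  have hqgi : GeometricallyIntegral q := MorphismProperty.of_isPullback hpb ‹_›
  have hsm := smooth_hom A
  have hq4 : Smooth q := MorphismProperty.of_isPullback hpb hsm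
  have hirr : IrreducibleSpace XL := GeometricallyIrreducible.irreducibleSpace q q.isOpenMap
  have hconn : ConnectedSpace XL := IrreducibleSpace.connectedSpace _
  let m : A.left ⟶ A.left := (𝟙 A ^ n : A ⟶ A).left
  have hm : m ≫ A.hom = A.hom := Over.w _
  have hm1 : Etale m := etale_pow A hn
  have hm2 : IsFinite m := isFinite_pow A hn
  let b : XL ⟶ XL := hpb.lift (p ≫ m) q (by rw [Category.assoc, hm, hpb.w])
  have hb1 : b ≫ p = p ≫ m := hpb.lift_fst _ _ _
  have hb2 : b ≫ q = q := hpb.lift_snd _ _ _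
  have hb : IsPullback p b m p := by
    refine IsPullback.of_bot (h₂₁ := p) (v₂₁ := q) (v₂₂ := A.hom) (h₃₁ := s) ?_ hb1.symm hpb
    rw [hb2, hm]
    exact hpb
  have hb3 : Etale b := MorphismProperty.of_isPullback hb hm1
  have hb4 : IsFinite b := MorphismProperty.of_isPullback hb hm2
  let CΩ := pullback (c ≫ A.hom) s
  let p₁ : CΩ ⟶ C := pullback.fst (c ≫ A.hom) s
  let q₁ : CΩ ⟶ Spec (CommRingCat.of Ω) := pullback.snd (c ≫ A.hom) s
  have hC : IsPullback p₁ q₁ (c ≫ A.hom) s := IsPullback.of_hasPullback _ _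
  let Z := pullback (p₁ ≫ c) m
  let u₁ : Z ⟶ CΩ := pullback.fst (p₁ ≫ c) m
  let u₂ : Z ⟶ A.left := pullback.snd (p₁ ≫ c) m
  have hZ : IsPullback u₁ u₂ (p₁ ≫ c) m := IsPullback.of_hasPullback _ _
  -- the morphism `C_Ω ⟶ A_Ω`
  let c' : CΩ ⟶ XL := hpb.lift (p₁ ≫ c) q₁ (by rw [Category.assoc, hC.w])
  have hc1 : c' ≫ p = p₁ ≫ c := hpb.lift_fst _ _ _
  have hc2 : c' ≫ q = q₁ := hpb.lift_snd _ _ _
  have hcC : IsPullback c' p₁ p c := by
    refine (IsPullback.of_bot (h₁₁ := p₁) (v₁₁ := c') (v₁₂ := c) (h₂₁ := p) (v₂₁ := q) (v₂₂ := A.hom) (h₃₁ := s)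
      ?_ hc1.symm hpb).flip
    rw [hc2]
    exact hC
  let w : Z ⟶ XL := hb.lift u₂ (u₁ ≫ c') (by rw [Category.assoc, hc1, hZ.w])
  have hw1 : w ≫ p = u₂ := hb.lift_fst _ _ _
  have hw2 : w ≫ b = u₁ ≫ c' := hb.lift_snd _ _ _
  have hwZ : IsPullback w u₁ b c' := by
    refine (IsPullback.of_right (h₁₁ := w) (h₁₂ := p) (v₁₁ := u₁) (v₁₂ := b) (v₁₃ := m) (h₂₁ := c') (h₂₂ := p)
      ?_ hw2 hb)
    rw [hw1, hc1]
    exact hZ.flip
  have hfin : IsPullback w (u₁ ≫ p₁) (b ≫ p) c := hwZ.paste_vert hcC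
  exact h Ω (algebraMap K Ω) XL p q hpb XL b Z w (u₁ ≫ p₁) hfin

/-- Curves in abelian varieties (`H` is the statement of S3719). -/
theorem exists_curve_av (H : Stmt.{u}) [Infinite K] (A : Over (Spec (CommRingCat.of K))) [GrpObj A]
    [IsCommMonObj A] [IsProper A.hom] [GeometricallyIntegral A.hom] (hd : topologicalKrullDim A.left ≠ 0) :
    ∃ (C : Scheme.{u}) (f : C ⟶ Spec (CommRingCat.of K)) (i : Over.mk f ⟶ A), IsClosedImmersion i.left ∧
      Curve.IsSmoothProperCurve K C f ∧ GeometricallyIntegral f ∧ IsIso f.appTop ∧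
      ∀ (Ω : Type u) [Field Ω] [Algebra K Ω] [IsSepClosed Ω] (n : ℕ) (_ : (n : K) ≠ 0),
        ConnectedSpace ↥(pullback (pullback.fst f (Spec.map (CommRingCat.ofHom (algebraMap K Ω))) ≫ i.left)
          (𝟙 A ^ n : A ⟶ A).left) := by
  have := smooth_hom A
  obtain ⟨r, j, hj, hj'⟩ := Groth.Agent.S1866.result K A
  obtain ⟨C, c, hc1, hc2, hc3, hc4, hc5⟩ := exists_curve_smooth H A.hom j hj' hd
  exact ⟨C, c ≫ A.hom, Over.homMk c rfl, hc1, hc2, hc3, hc4, fun Ω _ _ _ n hn => connectedSpace_cover A hc5 Ω hn⟩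

end Groth.Agent.Sga7.H5.AVCurve
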