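import Groth.Agent.Picfga.CurveRelDim
import Groth.Agent.Sga67.DVRConn
import Mathlib.AlgebraicGeometry.Group.Smooth
import Groth.Agent.Desc.LQF
import Mathlib.AlgebraicGeometry.ZariskisMainTheorem
import Mathlib.CategoryTheory.Monoidal.Cartesian.Over

/-!
# Abelian varieties of dimension zero

`eq_of_dim_zero`: a proper geometrically integral group scheme of dimension zero over a field is trivial.
`infinite_of_dvr`: the fraction field of a discrete valuation ring is infinite.
-/

set_option autoImplicit false
universe u

open CategoryTheory AlgebraicGeometry Limits MonObj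

namespace Groth.Agent.Sga7.H5.AVZero

variable {K : Type u} [Field K]

theorem isIso_hom (A : Over (Spec (CommRingCat.of K))) [GrpObj A] [IsProper A.hom]
    [GeometricallyIntegral A.hom] (hd : topologicalKrullDim A.left = 0) : IsIso A.hom := by
  have hg : GrpObj (Over.mk A.hom) := inferInstanceAs (GrpObj A)
  have hs : Smooth A.hom := smooth_of_grpObj A.hom
  have hint : IsIntegral A.left := GeometricallyIntegral.isIntegral_of_subsingleton A.hom
  have h0 : SmoothOfRelativeDimension 0 A.hom :=
    Picfga.CurveRelDim.smoothOfRelativeDimension_of_topologicalKrullDim_eq K A.left A.hom 0 (by simpa using hd)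
  have h1 : Etale A.hom := Etale.eq_smoothOfRelativeDimension_zero ▸ h0
  have h1q : LocallyQuasiFinite A.hom := Groth.Agent.Desc.LQF.of_etale A.hom
  have h2 : IsFinite A.hom := IsFinite.of_isProper_of_locallyQuasiFinite _
  have h3 : IsAffine A.left := isAffine_of_isAffineHom A.hom
  have h4 : IsIso A.hom.appTop := by
    rw [ConcreteCategory.isIso_iff_bijective]
    exact Sga67.DVRConn.appTop_bijective_of_field K A.left A.hom
  exact ((MorphismProperty.isomorphisms Scheme.{u}).arrow_mk_iso_iff (arrowIsoSpecΓOfIsAffine A.hom)).mpr
    (inferInstanceAs (IsIso (Spec.map A.hom.appTop)))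

theorem eq_of_dim_zero (A : Over (Spec (CommRingCat.of K))) [GrpObj A] [IsProper A.hom]
    [GeometricallyIntegral A.hom] (hd : topologicalKrullDim A.left = 0) {T : Over (Spec (CommRingCat.of K))}
    (x y : T ⟶ A) : x = y := by
  have := isIso_hom A hd
  apply Over.OverMorphism.ext
  rw [← cancel_mono A.hom, Over.w, Over.w]

theorem infinite_of_dvr (R : Type u) [CommRing R] [IsDomain R] [IsDiscreteValuationRing R] [Algebra R K]
    [IsFractionRing R K] : Infinite K := by
  have hR : Infinite R := by
    by_contra h
    rw [not_infinite_iff_finite] at h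
    exact IsDiscreteValuationRing.not_isField R (Finite.isField_of_domain R)
  exact Infinite.of_injective _ (IsFractionRing.injective R K)

end Groth.Agent.Sga7.H5.AVZero
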