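import Groth.Agent.Sga7.H5.Curve
import Groth.Agent.Picfga.CurveRelDim
import Groth.Agent.Sga67.DVRConn
import Groth.Prelude.Def_Curve
import Groth.Prelude.Def_SGA7I

/-!
# Curves in smooth projective varieties, over separably closed fields

`CarriesPiOneSep f c`: the version of `Curve.CarriesPiOne` for separably closed extensions.
`exists_curve_smooth`: the existence of a smooth proper curve `C ⟶ X` with this property.
-/

set_option autoImplicit false
universe u

open CategoryTheory AlgebraicGeometry Limits TopologicalSpace Opposite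

namespace Groth.Agent.Sga7.H5.AbCurve

open LefPen Groth.Agent.Sga7.H5.LinForm Groth.Agent.Sga7.H5.HypConn Groth.Agent.Sga7.H5.Curve

/-- An integral scheme smooth over a field is smooth of some relative dimension. -/
theorem exists_relDim (k : Type u) [Field k] (X : Scheme.{u}) (f : X ⟶ Spec (CommRingCat.of k))
    [Smooth f] [IsIntegral X] : ∃ n : ℕ, SmoothOfRelativeDimension n f := by
  choose m V hV hxV hsm hdim hbasic using Picfga.CurveRelDim.exists_local_data k X f
  have hconst : ∀ x y, m x = m y := by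
    intro x y
    obtain ⟨z, hz⟩ := nonempty_preirreducible_inter (V x).2 (V y).2 ⟨x, hxV x⟩ ⟨y, hxV y⟩
    obtain ⟨a, b, hab, hza⟩ := exists_basicOpen_le_affine_inter (hV x) (hV y) z hz
    have h1 := hbasic x a ⟨z, hza⟩
    have h2 := hbasic y b ⟨z, hab ▸ hza⟩
    rw [← hab, h1] at h2
    exact_mod_cast h2
  have : Nonempty X := inferInstance
  obtain ⟨x₀⟩ := this
  refine ⟨m x₀, ⟨fun x => ?_⟩⟩
  obtain ⟨U, hU, e, hs⟩ := hsm x
  rw [hconst x x₀] at hs
  exact ⟨U, hU, V x, hV x, hxV x, e, hs⟩

/-- The connectedness property of a closed subscheme `c : C ⟶ X` of a `K`-scheme `f : X ⟶ Spec K`, over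
separably closed extensions. -/
def CarriesPiOneSep {K : Type u} [Field K] {X C : Scheme.{u}} (f : X ⟶ Spec (CommRingCat.of K)) (c : C ⟶ X) :
    Prop :=
  ∀ (L : Type u) [Field L] [IsSepClosed L] (φ : K →+* L) (XL : Scheme.{u}) (p : XL ⟶ X)
    (q : XL ⟶ Spec (CommRingCat.of L)) (_ : IsPullback p q f (Spec.map (CommRingCat.ofHom φ)))
    (B : Scheme.{u}) (b : B ⟶ XL) [IsFinite b] [Etale b] [ConnectedSpace B]
    (Z : Scheme.{u}) (z₁ : Z ⟶ B) (z₂ : Z ⟶ C) (_ : IsPullback z₁ z₂ (b ≫ p) c), ConnectedSpace Z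

instance universallyInjective_sp (L : Type u) [Field L] [IsSepClosed L] :
    UniversallyInjective (Spec.map (CommRingCat.ofHom (algebraMap L (AlgebraicClosure L)))) := by
  refine ((tfae_universallyInjective _).out 0 1).mpr ?_
  intro K _ a b hab
  obtain ⟨φ, rfl⟩ := Spec.map_surjective a
  obtain ⟨ψ, rfl⟩ := Spec.map_surjective b
  congr 1
  ext1
  refine IsPurelyInseparable.injective_comp_algebraMap L (AlgebraicClosure L) K ?_
  simp only [← Spec.map_comp] at hab
  have := Spec.map_injective hab
  exact congrArg CommRingCat.Hom.hom this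

theorem connectedSpace_source {B B' : Scheme.{u}} (g : B' ⟶ B) [IsIntegralHom g] [UniversallyInjective g]
    [Surjective g] [ConnectedSpace B] : ConnectedSpace B' := by
  have h1 : IsHomeomorph g := by
    rw [isHomeomorph_iff_continuous_isClosedMap_bijective]
    exact ⟨g.continuous, g.isClosedMap, g.injective, g.surjective⟩
  have e : B' ≃ₜ B := h1.homeomorph
  exact e.symm.surjective.connectedSpace e.symm.continuous

theorem CarriesPiOneSep.of {K : Type u} [Field K] {X C : Scheme.{u}} {f : X ⟶ Spec (CommRingCat.of K)} {c : C ⟶ X}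
    (h : CarriesPiOne f c) : CarriesPiOneSep f c := by
  intro L _ _ φ XL p q hpb B b _ _ _ Z z₁ z₂ hZ
  let L' := AlgebraicClosure L
  let s : Spec (CommRingCat.of L') ⟶ Spec (CommRingCat.of L) := Spec.map (CommRingCat.ofHom (algebraMap L L'))
  have hs1 : IsIntegralHom s := by
    rw [IsIntegralHom.SpecMap_iff]
    exact algebraMap_isIntegral_iff.mpr inferInstance
  have hs2 : UniversallyInjective s := universallyInjective_sp L
  have hs3 : Surjective s := by
    constructor
    intro y
    have : Nonempty (PrimeSpectrum L') := inferInstance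
    obtain ⟨x⟩ := this
    exact ⟨x, Subsingleton.elim (α := PrimeSpectrum L) _ _⟩
  let XL' := pullback q s
  let t : XL' ⟶ XL := pullback.fst q s
  let q' : XL' ⟶ Spec (CommRingCat.of L') := pullback.snd q s
  have ht1 : IsIntegralHom t := MorphismProperty.pullback_fst _ _ hs1
  have ht2 : UniversallyInjective t := MorphismProperty.pullback_fst _ _ hs2
  have ht3 : Surjective t := MorphismProperty.pullback_fst _ _ hs3
  have hX : IsPullback (t ≫ p) q' f (Spec.map (CommRingCat.ofHom ((algebraMap L L').comp φ))) := by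
    have h1 : IsPullback t q' q s := IsPullback.of_hasPullback _ _
    have h2 := h1.paste_horiz hpb
    have h3 : s ≫ Spec.map (CommRingCat.ofHom φ) = Spec.map (CommRingCat.ofHom ((algebraMap L L').comp φ)) := by
      rw [CommRingCat.ofHom_comp, Spec.map_comp]
    rw [← h3]
    exact h2
  let B' := pullback b t
  let b' : B' ⟶ XL' := pullback.snd b t
  let β : B' ⟶ B := pullback.fst b t
  have hβ1 : IsIntegralHom β := MorphismProperty.pullback_fst _ _ ht1
  have hβ2 : UniversallyInjective β := MorphismProperty.pullback_fst _ _ ht2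
  have hβ3 : Surjective β := MorphismProperty.pullback_fst _ _ ht3
  have hB' : ConnectedSpace B' := connectedSpace_source β
  let Z' := pullback z₁ β
  let ζ : Z' ⟶ Z := pullback.fst z₁ β
  let z₁' : Z' ⟶ B' := pullback.snd z₁ β
  have hζ : Surjective ζ := MorphismProperty.pullback_fst _ _ hβ3
  have hZ' : IsPullback z₁' (ζ ≫ z₂) (b' ≫ t ≫ p) c := by
    have h1 : IsPullback z₁' ζ β z₁ := (IsPullback.of_hasPullback z₁ β).flip
    have h2 : IsPullback z₁' (ζ ≫ z₂) (β ≫ b ≫ p) c := h1.paste_vert hZ
    have h3 : β ≫ b ≫ p = b' ≫ t ≫ p := by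
      rw [← Category.assoc, pullback.condition (f := b) (g := t), Category.assoc]
    rwa [← h3]
  have := h L' ((algebraMap L L').comp φ) XL' (t ≫ p) q' hX B' b' Z' z₁' (ζ ≫ z₂) hZ'
  exact ζ.surjective.connectedSpace ζ.continuous

theorem exists_curve_smooth (H : Stmt.{u}) {K : Type u} [Field K] [Infinite K] {X : Scheme.{u}}
    (f : X ⟶ Spec (CommRingCat.of K)) [Smooth f] [GeometricallyIntegral f] {r : ℕ} (i : X ⟶ CohB1.ProjSpace r K)
    [IsClosedImmersion i] (hi : i ≫ CohB1.ProjSpace.toSpec r K = f) (hd : topologicalKrullDim X ≠ 0) :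
    ∃ (C : Scheme.{u}) (c : C ⟶ X), IsClosedImmersion c ∧ Curve.IsSmoothProperCurve K C (c ≫ f) ∧
      GeometricallyIntegral (c ≫ f) ∧ IsIso (c ≫ f).appTop ∧ CarriesPiOneSep f c := by
  subst hi
  have hint : IsIntegral X := GeometricallyIntegral.isIntegral_of_subsingleton (i ≫ CohB1.ProjSpace.toSpec r K)
  obtain ⟨m, hm⟩ := exists_relDim K X (i ≫ CohB1.ProjSpace.toSpec r K)
  have hdim : topologicalKrullDim X = m :=
    Sga4h.CurveHat410.topologicalKrullDim_eq (i ≫ CohB1.ProjSpace.toSpec r K) m
  obtain ⟨n, rfl⟩ : ∃ n, m = n + 1 := by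
    refine Nat.exists_eq_succ_of_ne_zero ?_
    rintro rfl
    exact hd (by simpa using hdim)
  obtain ⟨C, c, hc1, hc2, hc3, hc4⟩ := exists_curve H n X r i
  have hCint : IsIntegral C :=
    GeometricallyIntegral.isIntegral_of_subsingleton (c ≫ i ≫ CohB1.ProjSpace.toSpec r K)
  have hproj : IsProper (CohB1.ProjSpace.toSpec r K) := inferInstance
  have hprop : IsProper (c ≫ i ≫ CohB1.ProjSpace.toSpec r K) := inferInstance
  refine ⟨C, c, hc1, ⟨hprop, SmoothOfRelativeDimension.smooth 1 _, hCint, ?_⟩, hc3, ?_, CarriesPiOneSep.of hc4⟩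
  · have := Sga4h.CurveHat410.topologicalKrullDim_eq (c ≫ i ≫ CohB1.ProjSpace.toSpec r K) 1
    simpa using this
  · rw [ConcreteCategory.isIso_iff_bijective]
    exact Sga67.DVRConn.appTop_bijective_of_field K C _

end Groth.Agent.Sga7.H5.AbCurve
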