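import Groth.Agent.Sga7.H5.AVCurve
import Groth.Agent.Sga7.H5.AVZero
import Groth.Agent.Sga7.H731.LevelTwoD
import Groth.Prelude.Def_SGA7IX
import Mathlib.FieldTheory.IsSepClosed
import Mathlib.Topology.Algebra.OpenSubgroup
import Mathlib.FieldTheory.KrullTopology

/-!
# Assembly of S4050 from the case of curves

`PS`: potential unipotence of level two of the inertia group on `H¹` of a smooth proper geometrically connected
curve; `main`: the statement of S4050 from `PS` and the statement of S3719.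
-/

set_option autoImplicit false
universe u

open CategoryTheory CategoryTheory.Limits AlgebraicGeometry MonObj

namespace Groth.Agent.Sga7.H5.Asm4050

/-- Potential unipotence of level two for the `H¹` of a curve. -/
def PS : Prop :=
  ∀ (R K Ω : Type u) [CommRing R] [IsDomain R] [IsDiscreteValuationRing R] [Field K]
    [Algebra R K] [IsFractionRing R K] [Field Ω] [Algebra K Ω] [IsSepClosure K Ω]
    (W : ValuationSubring Ω) (_ : SGA7.LiesOver K R W)
    (ℓ : ℕ) (_ : ℓ.Prime) (_ : (ℓ : IsLocalRing.ResidueField R) ≠ 0)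
    (C : Scheme.{u}) (f : C ⟶ Spec (CommRingCat.of K)) (_ : Curve.IsSmoothProperCurve K C f)
    (_ : IsIso f.appTop) [GeometricallyIntegral f]
    [∀ σ : Ω ≃ₐ[K] Ω, PreservesFiniteLimits (EtCoh.pull (SGA7.twistAut Ω f σ))],
    ∃ π' : OpenSubgroup (Ω ≃ₐ[K] Ω), ∀ (ν : ℕ) (σ τ : Ω ≃ₐ[K] Ω), σ ∈ π' → τ ∈ π' →
      SGA7.IsInertia W σ → SGA7.IsInertia W τ →
        (SGA7.cohAct Ω f σ (ZMod (ℓ ^ ν)) 1 - 1) * (SGA7.cohAct Ω f τ (ZMod (ℓ ^ ν)) 1 - 1) = 0

/-- The statement of S4050, from the case of curves and the statement of S3719. -/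
theorem main (H : HypConn.Stmt.{u}) (hPS : PS.{u})
    (R K Ω : Type u) [CommRing R] [IsDomain R] [IsDiscreteValuationRing R] [Field K]
    [Algebra R K] [IsFractionRing R K] [Field Ω] [Algebra K Ω] [IsSepClosure K Ω]
    (W : ValuationSubring Ω) (hW : SGA7.LiesOver K R W)
    (ℓ : ℕ) (hℓ : ℓ.Prime) (hℓp : (ℓ : IsLocalRing.ResidueField R) ≠ 0)
    (A : Over (Spec (CommRingCat.of K))) [GrpObj A] [IsProper A.hom] [GeometricallyIntegral A.hom] :
    ∃ π' : OpenSubgroup (Ω ≃ₐ[K] Ω), ∀ (ν : ℕ) (σ τ : Ω ≃ₐ[K] Ω), σ ∈ π' → τ ∈ π' →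
      SGA7.IsInertia W σ → SGA7.IsInertia W τ →
        ∀ x : SGA7.Pts Ω A, x ^ (ℓ ^ ν) = 1 → SGA7.dev σ (SGA7.dev τ x) = 1 := by
  have hcomm : IsCommMonObj A := isCommMonObj_of_isProper_of_geometricallyIntegral A
  by_cases hd : topologicalKrullDim A.left = 0
  · exact ⟨⊤, fun ν σ τ _ _ _ _ x _ => AVZero.eq_of_dim_zero A hd _ _⟩
  · have hinf : Infinite K := AVZero.infinite_of_dvr R
    have hΩ : IsSepClosed Ω := IsSepClosure.sep_closed K
    obtain ⟨C, f, i, -, hC, hf, hf0, hcon⟩ := AVCurve.exists_curve_av H A hd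
    have hpfl : ∀ σ : Ω ≃ₐ[K] Ω, PreservesFiniteLimits (EtCoh.pull (SGA7.twistAut Ω f σ)) :=
      fun σ => Groth.Agent.S0101.result _
    obtain ⟨π', hπ⟩ := hPS R K Ω W hW ℓ hℓ hℓp C f hC hf0
    have hℓR : IsUnit (ℓ : R) := by
      by_contra h
      apply hℓp
      have h1 : (ℓ : R) ∈ IsLocalRing.maximalIdeal R := (IsLocalRing.mem_maximalIdeal _).mpr h
      rw [← map_natCast (IsLocalRing.residue R), IsLocalRing.residue_eq_zero_iff]
      exact h1
    have hℓK : (ℓ : K) ≠ 0 := by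
      rw [← map_natCast (algebraMap R K)]
      exact (hℓR.map (algebraMap R K)).ne_zero
    refine ⟨π', fun ν σ τ hσ hτ hIσ hIτ x hx => ?_⟩
    have hn : ((ℓ ^ ν : ℕ) : K) ≠ 0 := by
      rw [Nat.cast_pow]
      exact pow_ne_zero _ hℓK
    have : NeZero (ℓ ^ ν) := ⟨pow_ne_zero _ hℓ.ne_zero⟩
    have := AVCurve.etale_pow A hn
    have := AVCurve.surjective_pow A hn
    exact H731.LevelTwoD.levelTwo_of_cohAct (ℓ ^ ν) i (hcon Ω (ℓ ^ ν) hn) σ τ (hπ ν τ σ hτ hσ hIτ hIσ) x hx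

end Groth.Agent.Sga7.H5.Asm4050
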