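import Groth.Agent.Sga7.H5.HypConn
import Groth.Agent.Ega1.GenPts

/-!
# Curves in projective varieties through which the fundamental group is carried

`exists_curve`: `K` infinite, `X ⊆ P^r_K` smooth of relative dimension `n + 1` and geometrically integral.  There
is a closed subscheme `C` of `X`, smooth of relative dimension one and geometrically integral over `K`, such that
for every algebraically closed extension `L` and every connected finite étale cover `B` of `X_L` the scheme
`B ×_X C` is connected.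
-/

set_option autoImplicit false
universe u

open CategoryTheory AlgebraicGeometry Limits TopologicalSpace Opposite

namespace Groth.Agent.Sga7.H5.Curve

open LefPen Groth.Agent.Sga7.H5.LinForm Groth.Agent.Sga7.H5.HypConn

/-- Connected smooth schemes over a field are integral. -/
theorem isIntegral_of_smooth {k : Type u} [Field k] [PerfectField k] {Y : Scheme.{u}}
    (p : Y ⟶ Spec (CommRingCat.of k)) [Smooth p] [ConnectedSpace Y] : IsIntegral Y := by
  have : IsLocallyNoetherian Y := LocallyOfFiniteType.isLocallyNoetherian p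
  exact (Groth.Agent.Ega1.GenPts.isIntegral_iff Y).mpr
    ⟨inferInstance, fun x => (Groth.Agent.Sga4B.CurveComp.isNormalScheme_of_smooth p x).1⟩

/-- The connectedness property of a closed subscheme `c : C ⟶ X` of a `K`-scheme `f : X ⟶ Spec K`. -/
def CarriesPiOne {K : Type u} [Field K] {X C : Scheme.{u}} (f : X ⟶ Spec (CommRingCat.of K)) (c : C ⟶ X) : Prop :=
  ∀ (L : Type u) [Field L] [IsAlgClosed L] (φ : K →+* L) (XL : Scheme.{u}) (p : XL ⟶ X)
    (q : XL ⟶ Spec (CommRingCat.of L)) (_ : IsPullback p q f (Spec.map (CommRingCat.ofHom φ)))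
    (B : Scheme.{u}) (b : B ⟶ XL) [IsFinite b] [Etale b] [ConnectedSpace B]
    (Z : Scheme.{u}) (z₁ : Z ⟶ B) (z₂ : Z ⟶ C) (_ : IsPullback z₁ z₂ (b ≫ p) c), ConnectedSpace Z

theorem connectedSpace_of_iso {Z B : Scheme.{u}} (z : Z ⟶ B) [IsIso z] [ConnectedSpace B] : ConnectedSpace Z :=
  (inv z).surjective.connectedSpace (inv z).continuous

theorem exists_curve (H : Stmt.{u}) {K : Type u} [Field K] [Infinite K] (n : ℕ) :
    ∀ (X : Scheme.{u}) (r : ℕ) (i : X ⟶ CohB1.ProjSpace r K) [IsClosedImmersion i]
      [SmoothOfRelativeDimension (n + 1) (i ≫ CohB1.ProjSpace.toSpec r K)]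
      [GeometricallyIntegral (i ≫ CohB1.ProjSpace.toSpec r K)],
      ∃ (C : Scheme.{u}) (c : C ⟶ X), IsClosedImmersion c ∧
        SmoothOfRelativeDimension 1 (c ≫ i ≫ CohB1.ProjSpace.toSpec r K) ∧
        GeometricallyIntegral (c ≫ i ≫ CohB1.ProjSpace.toSpec r K) ∧
        CarriesPiOne (i ≫ CohB1.ProjSpace.toSpec r K) c := by
  induction n with
  | zero =>
    intro X r i _ hs hi
    refine ⟨X, 𝟙 X, inferInstance, by rwa [Category.id_comp], by rwa [Category.id_comp], ?_⟩
    intro L _ _ φ XL p q hpb B b _ _ _ Z z₁ z₂ hZ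
    have : IsIso z₁ := MorphismProperty.of_isPullback (P := MorphismProperty.isomorphisms _) hZ.flip
      (inferInstanceAs (IsIso (𝟙 X)))
    exact connectedSpace_of_iso z₁
  | succ n ih =>
    intro X r i _ hs hi
    have hint : IsIntegral X := GeometricallyIntegral.isIntegral_of_subsingleton (i ≫ CohB1.ProjSpace.toSpec r K)
    obtain ⟨a, ha, hsY⟩ := exists_linForm i (n + 1)
    let G : Form r K 1 := linForm a
    let Y : Scheme.{u} := Sec i {G}
    let y : Y ⟶ X := secι i {G}
    let i' : Y ⟶ CohB1.ProjSpace r K := y ≫ i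
    have hs' : SmoothOfRelativeDimension (n + 1) (i' ≫ CohB1.ProjSpace.toSpec r K) := by
      rw [Category.assoc]
      exact hsY
    have hsm' : Smooth (i' ≫ CohB1.ProjSpace.toSpec r K) := SmoothOfRelativeDimension.smooth (n + 1) _
    have hyc : IsClosedImmersion y := inferInstanceAs (IsClosedImmersion (secIdeal i {G}).subschemeι)
    have hcl : IsClosedImmersion i' := inferInstanceAs (IsClosedImmersion (y ≫ i))
    -- the connectedness of the section of covers
    have step : ∀ (L : Type u) [Field L] [IsAlgClosed L] (φ : K →+* L) (XL : Scheme.{u}) (p : XL ⟶ X)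
        (q : XL ⟶ Spec (CommRingCat.of L))
        (_ : IsPullback p q (i ≫ CohB1.ProjSpace.toSpec r K) (Spec.map (CommRingCat.ofHom φ)))
        (B : Scheme.{u}) (b : B ⟶ XL) [IsFinite b] [Etale b] [ConnectedSpace B]
        (Z : Scheme.{u}) (z₁ : Z ⟶ B) (z₂ : Z ⟶ Y) (_ : IsPullback z₁ z₂ (b ≫ p) y), ConnectedSpace Z := by
      intro L _ _ φ XL p q hpb B b _ _ _ Z z₁ z₂ hZ
      exact connectedSpace_step i H (n + 1) (Nat.le_add_left 1 n) G ha φ hpb b hZ
    have hgi : GeometricallyIntegral (i' ≫ CohB1.ProjSpace.toSpec r K) := by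
      let L := AlgebraicClosure K
      let φ : K →+* L := algebraMap K L
      let XL := pullback (i ≫ CohB1.ProjSpace.toSpec r K) (Spec.map (CommRingCat.ofHom φ))
      let p : XL ⟶ X := pullback.fst _ _
      let q : XL ⟶ Spec (CommRingCat.of L) := pullback.snd _ _
      have hpb : IsPullback p q (i ≫ CohB1.ProjSpace.toSpec r K) (Spec.map (CommRingCat.ofHom φ)) :=
        IsPullback.of_hasPullback _ _
      have hqgi : GeometricallyIntegral q := MorphismProperty.of_isPullback hpb hi
      have hq4 : Smooth q := MorphismProperty.of_isPullback hpb (SmoothOfRelativeDimension.smooth (n + 1 + 1) _)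
      have hirr : IrreducibleSpace XL := GeometricallyIrreducible.irreducibleSpace q q.isOpenMap
      have hconn : ConnectedSpace XL := IrreducibleSpace.connectedSpace _
      let YL := pullback (i' ≫ CohB1.ProjSpace.toSpec r K) (Spec.map (CommRingCat.ofHom φ))
      let s : YL ⟶ Y := pullback.fst _ _
      let t : YL ⟶ Spec (CommRingCat.of L) := pullback.snd _ _
      have hst : IsPullback s t (i' ≫ CohB1.ProjSpace.toSpec r K) (Spec.map (CommRingCat.ofHom φ)) :=
        IsPullback.of_hasPullback _ _
      let z : YL ⟶ XL := hpb.lift (s ≫ y) t (by rw [Category.assoc, ← hst.w]; rfl)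
      have hz1 : z ≫ p = s ≫ y := hpb.lift_fst _ _ _
      have hz2 : z ≫ q = t := hpb.lift_snd _ _ _
      have hzp : IsPullback z s p y := by
        refine (IsPullback.of_bot (h₁₁ := s) (v₁₁ := z) (h₂₁ := p) (v₁₂ := y) ?_ hz1.symm hpb.flip.flip).flip
        rw [hz2]
        have : y ≫ i ≫ CohB1.ProjSpace.toSpec r K = i' ≫ CohB1.ProjSpace.toSpec r K := (Category.assoc _ _ _).symm
        rw [this]
        exact hst
      have hYL : ConnectedSpace YL := by
        refine step L φ XL p q hpb XL (𝟙 XL) YL z s ?_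
        rwa [Category.id_comp]
      have ht : Smooth t := MorphismProperty.of_isPullback hst hsm'
      have hYint : IsIntegral YL := isIntegral_of_smooth t
      have hYirr : IrreducibleSpace YL := inferInstance
      have h5 : GeometricallyIrreducible (i' ≫ CohB1.ProjSpace.toSpec r K) :=
        Groth.Agent.Fdesc.IntegralFib.geometricallyIrreducible_of_irreducibleSpace_pullback _
          (Spec.map (CommRingCat.ofHom φ))
      exact Groth.Agent.Flat2B.SmoothGeom.geometricallyIntegral_of_smooth _
    obtain ⟨C, c, hc1, hc2, hc3, hc4⟩ := ih Y r i'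
    have e : (c ≫ y) ≫ i ≫ CohB1.ProjSpace.toSpec r K = c ≫ i' ≫ CohB1.ProjSpace.toSpec r K := by
      simp [i', Category.assoc]
    refine ⟨C, c ≫ y, inferInstance, by rwa [e], by rwa [e], ?_⟩
    intro L _ _ φ XL p q hpb B b _ _ _ Z z₁ z₂ hZ
    let YL := pullback (i' ≫ CohB1.ProjSpace.toSpec r K) (Spec.map (CommRingCat.ofHom φ))
    let s : YL ⟶ Y := pullback.fst _ _
    let t : YL ⟶ Spec (CommRingCat.of L) := pullback.snd _ _
    have hst : IsPullback s t (i' ≫ CohB1.ProjSpace.toSpec r K) (Spec.map (CommRingCat.ofHom φ)) :=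
      IsPullback.of_hasPullback _ _
    let z : YL ⟶ XL := hpb.lift (s ≫ y) t (by rw [Category.assoc, ← hst.w]; rfl)
    have hz1 : z ≫ p = s ≫ y := hpb.lift_fst _ _ _
    have hz2 : z ≫ q = t := hpb.lift_snd _ _ _
    have hzp : IsPullback z s p y := by
      refine (IsPullback.of_bot (h₁₁ := s) (v₁₁ := z) (h₂₁ := p) (v₁₂ := y) ?_ hz1.symm hpb.flip.flip).flip
      rw [hz2]
      have : y ≫ i ≫ CohB1.ProjSpace.toSpec r K = i' ≫ CohB1.ProjSpace.toSpec r K := (Category.assoc _ _ _).symm
      rw [this]
      exact hst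
    -- the pulled back cover
    let B' := pullback b z
    let b' : B' ⟶ YL := pullback.snd _ _
    let β : B' ⟶ B := pullback.fst _ _
    have hB' : IsPullback β b' b z := IsPullback.of_hasPullback _ _
    have hBp : IsPullback β (b' ≫ s) (b ≫ p) y := hB'.paste_vert hzp
    have hB'c : ConnectedSpace B' := step L φ XL p q hpb B b B' β (b' ≫ s) hBp
    let w : Z ⟶ B' := hBp.lift z₁ (z₂ ≫ c) (by rw [hZ.w, Category.assoc])
    have hw1 : w ≫ β = z₁ := hBp.lift_fst _ _ _
    have hw2 : w ≫ b' ≫ s = z₂ ≫ c := hBp.lift_snd _ _ _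
    have hwp : IsPullback w z₂ (b' ≫ s) c := by
      refine IsPullback.of_right (h₁₂ := β) (h₂₂ := y) ?_ hw2 hBp
      rw [hw1]
      exact hZ
    exact hc4 L φ YL s t hst B' b' Z w z₂ hwp

end Groth.Agent.Sga7.H5.Curve
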