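import Groth.Agent.Sga7.H5.LinForm
import Groth.Agent.Lefpen.H716.CIGeom
import Groth.Agent.CohqB.ProjBC
import Groth.Agent.Sga4h.CurveHat410
import Groth.Agent.Fdesc.IntegralFib
import Groth.Agent.Flat2B.SmoothGeom
import Groth.Prelude.Def_FEt
import Groth.Prelude.Def_Pi1

/-!
# Connectedness of hyperplane sections of étale covers

`Stmt` is the statement of S3719 (kept as a hypothesis).  `connectedSpace_step`: `X ⊆ P^r_K` smooth of
relative dimension `n + 1 ≥ 2` and geometrically integral over `K`, `G` a nonzero linear form over `K`, `L` an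
algebraically closed extension and `B → X_L` a connected finite étale cover; then `B ×_X (X ∩ V(G))` is
connected.
-/

set_option autoImplicit false
universe u

open CategoryTheory AlgebraicGeometry Limits TopologicalSpace Opposite

namespace Groth.Agent.Sga7.H5.HypConn

open LefPen Groth.Agent.Sga7.H5.LinForm

/-- The statement of S3719. -/
def Stmt : Prop :=
  ∀ (k : Type u) [Field k] [IsAlgClosed k] (X : Scheme.{u})
    [X.Over (Spec (CommRingCat.of k))] [IsProper (X ↘ Spec (CommRingCat.of k))] [IrreducibleSpace X]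
    (_ : Pi1.IsNormalScheme X) (r : ℕ) (g : X ⟶ CohB1.ProjSpace r k)
    (_ : g ≫ CohB1.ProjSpace.toSpec r k = X ↘ Spec (CommRingCat.of k))
    (_ : 2 ≤ topologicalKrullDim ↥(closure (Set.range g.base)))
    (ℓ : MvPolynomial (Fin (r + 1)) k) (_ : ℓ ∈ CohB1.polyGrading r k 1) (_ : ℓ ≠ 0)
    (X' : FEt.Cat X) [ConnectedSpace X'.left],
    _root_.IsConnected (((X'.hom ≫ g).base ⁻¹' (Proj.basicOpen (CohB1.polyGrading r k) ℓ).carrier)ᶜ)

variable {r : ℕ} {K : Type u} [Field K] {X : Scheme.{u}} (i : X ⟶ CohB1.ProjSpace r K)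

theorem range_secι (G : Form r K 1) :
    Set.range (secι i {G}) = (i ⁻¹ᵁ (Proj.basicOpen (CohB1.polyGrading r K) G.1) : Set X)ᶜ := by
  have h1 : Set.range (secι i {G}) = (secIdeal i {G}).support :=
    Scheme.IdealSheafData.range_subschemeι _
  rw [h1, secIdeal]
  have h2 : (⨆ G' ∈ ({G} : Set (Form r K 1)), hypIdeal G') = hypIdeal G := by simp
  rw [h2, Scheme.IdealSheafData.support_comap]
  ext x
  change i x ∈ (hypIdeal G).support ↔ _
  rw [Groth.Agent.Lefpen.H716.CIGeom.mem_support_hypIdeal_iff]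
  rfl

/-- A nonempty closed immersion with connected range has connected source. -/
theorem connectedSpace_of_range {Z B : Scheme.{u}} (z : Z ⟶ B) [IsClosedImmersion z]
    (h : _root_.IsConnected (Set.range z)) : ConnectedSpace Z := by
  have e : Z ≃ₜ Set.range z := z.isClosedEmbedding.isEmbedding.toHomeomorph
  have : ConnectedSpace (Set.range z) := isConnected_iff_connectedSpace.mp h
  exact e.symm.surjective.connectedSpace e.symm.continuous

theorem range_comp_iso {P P' Q : Scheme.{u}} {e : P ⟶ P'} [IsIso e] {f : P' ⟶ Q} {g : P ⟶ Q} (h : e ≫ f = g) :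
    Set.range g = Set.range f := by
  subst h
  ext x
  constructor
  · rintro ⟨y, rfl⟩
    exact ⟨e y, by rw [Scheme.Hom.comp_apply]⟩
  · rintro ⟨y, rfl⟩
    obtain ⟨z, rfl⟩ := e.surjective y
    exact ⟨z, by rw [Scheme.Hom.comp_apply]⟩

theorem connectedSpace_step (H : Stmt.{u}) [IsClosedImmersion i] (n : ℕ) (hn : 1 ≤ n)
    [SmoothOfRelativeDimension (n + 1) (i ≫ CohB1.ProjSpace.toSpec r K)]
    [GeometricallyIntegral (i ≫ CohB1.ProjSpace.toSpec r K)]
    (G : Form r K 1) (hG : G.1 ≠ 0) {L : Type u} [Field L] [IsAlgClosed L] (φ : K →+* L)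
    {XL : Scheme.{u}} {p : XL ⟶ X} {q : XL ⟶ Spec (CommRingCat.of L)}
    (hpb : IsPullback p q (i ≫ CohB1.ProjSpace.toSpec r K) (Spec.map (CommRingCat.ofHom φ)))
    {B : Scheme.{u}} (b : B ⟶ XL) [IsFinite b] [Etale b] [ConnectedSpace B]
    {Z : Scheme.{u}} {z₁ : Z ⟶ B} {z₂ : Z ⟶ Sec i {G}} (hZ : IsPullback z₁ z₂ (b ≫ p) (secι i {G})) :
    ConnectedSpace Z := by
  have hsq := CohqB.ProjBC.isPullback_pmap φ r
  have hproper : IsProper (i ≫ CohB1.ProjSpace.toSpec r K) := by
    have : IsProper (CohB1.ProjSpace.toSpec r K) := inferInstance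
    infer_instance
  have hq1 : SmoothOfRelativeDimension (n + 1) q :=
    (smoothOfRelativeDimension_isStableUnderBaseChange (n := n + 1)).of_isPullback hpb ‹_›
  have hq2 : GeometricallyIntegral q := MorphismProperty.of_isPullback hpb ‹_›
  have hq3 : IsProper q := MorphismProperty.of_isPullback hpb hproper
  have hq4 : Smooth q := SmoothOfRelativeDimension.smooth (n + 1) q
  have hirr : IrreducibleSpace XL := GeometricallyIrreducible.irreducibleSpace q q.isOpenMap
  let g : XL ⟶ CohB1.ProjSpace r L := hsq.lift (p ≫ i) q (by rw [Category.assoc, hpb.w])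
  have hg1 : g ≫ CohqB.ProjBC.pmap φ r = p ≫ i := hsq.lift_fst _ _ _
  have hg2 : g ≫ CohB1.ProjSpace.toSpec r L = q := hsq.lift_snd _ _ _
  have hgp : IsPullback p g i (CohqB.ProjBC.pmap φ r) :=
    IsPullback.of_bot (hg2.symm ▸ hpb) hg1.symm hsq
  have hgc : IsClosedImmersion g := MorphismProperty.of_isPullback hgp ‹_›
  have hdim : 2 ≤ topologicalKrullDim ↥(closure (Set.range g.base)) := by
    have h1 : topologicalKrullDim XL = ((n + 1 : ℕ) : WithBot ℕ∞) :=
      Sga4h.CurveHat410.topologicalKrullDim_eq q (n + 1)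
    have h2 : IsClosed (Set.range g.base) := g.isClosedEmbedding.isClosed_range
    rw [h2.closure_eq, ← IsHomeomorph.topologicalKrullDim_eq _
      (g.isClosedEmbedding.isEmbedding.toHomeomorph).isHomeomorph]
    refine le_trans ?_ h1.ge
    exact_mod_cast Nat.succ_le_succ hn
  let ℓ : MvPolynomial (Fin (r + 1)) L := CohqB.ProjBC.gmap φ r G.1
  have hℓ : ℓ ∈ CohB1.polyGrading r L 1 := (CohqB.ProjBC.gmap φ r).map_mem G.2
  have hℓ0 : ℓ ≠ 0 := by
    intro h
    exact hG ((MvPolynomial.map_injective φ φ.injective) (h.trans (map_zero _).symm))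
  let X' : FEt.Cat XL := MorphismProperty.Over.mk ⊤ b ⟨inferInstance, inferInstance⟩
  have : ConnectedSpace X'.left := ‹ConnectedSpace B›
  let _ : XL.Over (Spec (CommRingCat.of L)) := ⟨q⟩
  have : IsProper (XL ↘ Spec (CommRingCat.of L)) := hq3
  have hc := H L XL (Groth.Agent.Sga4B.CurveComp.isNormalScheme_of_smooth q) r g hg2 hdim ℓ hℓ hℓ0 X'
  have hz : IsClosedImmersion z₁ := MorphismProperty.of_isPullback hZ.flip inferInstance
  refine connectedSpace_of_range z₁ ?_
  have h1 : Set.range z₁ = (b ≫ p) ⁻¹' (Set.range (secι i {G})) := by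
    rw [← Scheme.Pullback.range_fst]
    exact range_comp_iso hZ.isoPullback_hom_fst
  have h2 : CohqB.ProjBC.pmap φ r ⁻¹ᵁ (Proj.basicOpen (CohB1.polyGrading r K) G.1) =
      Proj.basicOpen (CohB1.polyGrading r L) ℓ :=
    Proj.map_preimage_basicOpen (CohqB.ProjBC.gmap φ r) (CohqB.ProjBC.irrelevant_le φ r) G.1
  have h3 : (b ≫ g) ⁻¹ᵁ (Proj.basicOpen (CohB1.polyGrading r L) ℓ) =
      (b ≫ p) ⁻¹ᵁ (i ⁻¹ᵁ (Proj.basicOpen (CohB1.polyGrading r K) G.1)) := by
    rw [← h2, ← Scheme.Hom.comp_preimage, ← Scheme.Hom.comp_preimage, Category.assoc, hg1, Category.assoc]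
  have h4 : Set.range z₁ = (((b ≫ g) ⁻¹ᵁ (Proj.basicOpen (CohB1.polyGrading r L) ℓ) : B.Opens) : Set B)ᶜ := by
    rw [h1, range_secι, h3]
    rfl
  rw [h4]
  exact hc

end Groth.Agent.Sga7.H5.HypConn
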