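import Groth.Agent.Lefpen.H708.Geo
import Groth.Agent.Picfga.CurveRelDim
import Groth.Agent.Sga4h.CurveHat410
import Groth.Agent.S4228
import Mathlib.Algebra.MvPolynomial.Funext

/-!
# Smooth hyperplane sections over an infinite field

`exists_linForm`: an integral closed subscheme of `P^r_k`, `k` infinite, smooth of relative dimension `n + 1`
has a hyperplane section which is smooth of relative dimension `n` over `k`.
-/

set_option autoImplicit false
universe u

open CategoryTheory AlgebraicGeometry Limits TopologicalSpace Opposite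

namespace Groth.Agent.Sga7.H5.LinForm

open LefPen Groth.Agent.Lefpen.H705.HypIdeal Groth.Agent.Lefpen.H705.SecIdeal
open Groth.Agent.Lefpen.H705.ChartPoly Groth.Agent.Lefpen.H708.Geo Groth.Agent.Sga5

variable {r : ℕ} {k : Type u} [Field k]

/-- The linear form with given coefficients. -/
noncomputable def linForm (a : Fin (r + 1) → k) : Form r k 1 :=
  ⟨∑ j, MvPolynomial.C (a j) * MvPolynomial.X j, by
    refine (MvPolynomial.mem_homogeneousSubmodule 1 _).mpr ?_
    refine MvPolynomial.IsHomogeneous.sum _ _ _ fun j _ => ?_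
    simpa using (MvPolynomial.isHomogeneous_C _ (a j)).mul (MvPolynomial.isHomogeneous_X k j)⟩

theorem linForm_val (a : Fin (r + 1) → k) :
    (linForm a).1 = ∑ j, MvPolynomial.C (a j) * MvPolynomial.X j := rfl

theorem coeff_linForm (a : Fin (r + 1) → k) (j : Fin (r + 1)) :
    MvPolynomial.coeff (Finsupp.single j 1) (linForm a).1 = a j := by
  classical
  rw [linForm_val, MvPolynomial.coeff_sum]
  rw [Finset.sum_eq_single j]
  · rw [MvPolynomial.coeff_C_mul, MvPolynomial.coeff_X]
    simp
  · intro l _ hl
    rw [MvPolynomial.coeff_C_mul, MvPolynomial.coeff_X]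
    rw [if_neg, mul_zero]
    intro h
    exact hl (Finsupp.single_left_injective one_ne_zero h)
  · simp

theorem dehom_linForm (a : Fin (r + 1) → k) (j : Fin (r + 1)) :
    ProjChart.dehom r k j (linForm a).1 =
      MvPolynomial.C (a j) + ∑ l : Fin r, MvPolynomial.C (a (j.succAbove l)) * MvPolynomial.X l := by
  rw [linForm_val, Fin.sum_univ_succAbove _ j]
  simp [map_add, map_sum]

/-- The reindexing of the coefficients of a linear form on the `j`-th chart. -/
def reindex (j : Fin (r + 1)) : Fin (r + 1) → Fin (r + 1) := Fin.cases j fun l => j.succAbove l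

theorem reindex_injective (j : Fin (r + 1)) : Function.Injective (reindex j) := by
  intro x y h
  induction x using Fin.cases with
  | zero =>
    induction y using Fin.cases with
    | zero => rfl
    | succ y => exact absurd h.symm (Fin.succAbove_ne j y)
  | succ x =>
    induction y using Fin.cases with
    | zero => exact absurd h (Fin.succAbove_ne j x)
    | succ y => exact congrArg Fin.succ (Fin.succAbove_right_injective h)

variable {X : Scheme.{u}} (i : X ⟶ CohB1.ProjSpace r k)

/-- Dimension of the chart rings. -/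
theorem ringKrullDim_chart {f : X ⟶ Spec (CommRingCat.of k)} [IsIntegral X] (n : ℕ)
    [SmoothOfRelativeDimension n f] {U : X.Opens} (hU : IsAffineOpen U) (hne : Nonempty U) :
    ringKrullDim Γ(X, U) = n := by
  rw [← Picfga.CurveRelDim.topologicalKrullDim_of_isAffineOpen hU]
  have h0 : SmoothOfRelativeDimension (0 + n) (U.ι ≫ f) := inferInstance
  rw [zero_add] at h0
  have : IrreducibleSpace U.toScheme := inferInstance
  exact Sga4h.CurveHat410.topologicalKrullDim_eq (U.ι ≫ f) n

/-- Passing from pointwise smoothness to the local form. -/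
theorem locally_of_forall {B S : Type u} [CommRing B] [CommRing S] [Algebra B S] (n : ℕ)
    (h : ∀ q : Ideal S, q.IsPrime → ∃ f : S, f ∉ q ∧
      SmoothOfRelativeDimension n (Spec.map (CommRingCat.ofHom (algebraMap B (Localization.Away f))))) :
    RingHom.Locally (RingHom.IsStandardSmoothOfRelativeDimension n) (algebraMap B S) := by
  let s : Set S := {f | SmoothOfRelativeDimension n
    (Spec.map (CommRingCat.ofHom (algebraMap B (Localization.Away f))))}
  have hs : Ideal.span s = ⊤ := by
    by_contra hne
    obtain ⟨m, hm, hle⟩ := Ideal.exists_le_maximal _ hne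
    obtain ⟨f, hf, hsm⟩ := h m hm.isPrime
    exact hf (hle (Ideal.subset_span hsm))
  refine RingHom.locally_ofLocalizationSpanTarget
    (RingHom.isStandardSmoothOfRelativeDimension_respectsIso (n := n)) (algebraMap B S) s hs ?_
  rintro ⟨f, hf⟩
  have h1 := (HasRingHomProperty.Spec_iff (P := @SmoothOfRelativeDimension n)).mp hf
  rw [IsScalarTower.algebraMap_eq B S (Localization.Away f)] at h1
  exact h1

/-- The general hyperplane section on one chart. -/
theorem exists_poly [Infinite k] [IsClosedImmersion i] [IsIntegral X] (n : ℕ)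
    [SmoothOfRelativeDimension (n + 1) (i ≫ CohB1.ProjSpace.toSpec r k)] (j : Fin (r + 1)) :
    ∃ g : MvPolynomial (Fin (r + 1)) k, g ≠ 0 ∧ ∀ a : Fin (r + 1) → k, MvPolynomial.eval a g ≠ 0 →
      RingHom.Locally (RingHom.IsStandardSmoothOfRelativeDimension n)
      ((Ideal.Quotient.mk (Ideal.span (eqn i j (i ⁻¹ᵁ chart r k j) le_rfl '' {linForm a}))).comp
        ((coordU i j (i ⁻¹ᵁ chart r k j) le_rfl).comp MvPolynomial.C)) := by
  let U : X.Opens := i ⁻¹ᵁ chart r k j
  let B : Type u := Γ(X, U)
  let φ : MvPolynomial (Fin r) k →+* B := coordU i j U le_rfl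
  let _ : Algebra k B := (φ.comp MvPolynomial.C).toAlgebra
  let x : Fin r → B := fun l => φ (MvPolynomial.X l)
  have hU : IsAffineOpen U := (isAffineOpen_chart j).preimage i
  have hφ : ∀ p, MvPolynomial.aeval x p = φ p := by
    intro p
    have h1 : ((MvPolynomial.aeval x : MvPolynomial (Fin r) k →ₐ[k] B) : MvPolynomial (Fin r) k →+* B) = φ := by
      refine MvPolynomial.ringHom_ext (fun c => ?_) (fun l => ?_)
      · rw [RingHom.coe_coe, MvPolynomial.aeval_C]
        rfl
      · rw [RingHom.coe_coe, MvPolynomial.aeval_X]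
    exact congrArg (fun t : MvPolynomial (Fin r) k →+* B => t p) h1
  have hx : Function.Surjective (MvPolynomial.aeval x : MvPolynomial (Fin r) k →ₐ[k] B) := by
    intro b
    obtain ⟨p, hp⟩ := coordU_surjective i j b
    exact ⟨p, (hφ p).trans hp⟩
  have hdim : ∀ P ∈ minimalPrimes B, ringKrullDim (B ⧸ P) = ((n + 1 : ℕ) : WithBot ℕ∞) := by
    intro P hP
    have hPp : P.IsPrime := hP.1.1
    have hne : Nonempty U := by
      by_contra he
      rw [not_nonempty_iff] at he
      have : U = ⊥ := by
        ext y
        exact ⟨fun hy => (he.false ⟨y, hy⟩).elim, fun hy => hy.elim⟩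
      have hsub : Subsingleton B := by
        change Subsingleton Γ(X, U)
        rw [this]
        infer_instance
      exact hPp.ne_top (Subsingleton.elim _ _)
    have hdom : IsDomain B := inferInstanceAs (IsDomain Γ(X, U))
    have hbot : P = ⊥ := by
      have := hP.2 ⟨Ideal.isPrime_bot, bot_le⟩ bot_le
      exact le_bot_iff.mp this
    subst hbot
    rw [ringKrullDim_eq_of_ringEquiv (RingEquiv.quotientBot B)]
    exact ringKrullDim_chart (f := i ≫ CohB1.ProjSpace.toSpec r k) (n + 1) hU hne
  obtain ⟨g, hg0, hg⟩ := Groth.Agent.S4228.result k r (n + 1) B x hx hdim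
  refine ⟨MvPolynomial.rename (reindex j) g, ?_, fun a ha => ?_⟩
  · rw [Ne, MvPolynomial.rename_eq_zero_iff_of_injective _ (reindex_injective j)]
    exact hg0
  rw [MvPolynomial.eval_rename] at ha
  have h1 := hg (a ∘ reindex j) ha
  have heq : algebraMap k B ((a ∘ reindex j) 0) + ∑ l : Fin r, algebraMap k B ((a ∘ reindex j) l.succ) * x l =
      eqn i j (i ⁻¹ᵁ chart r k j) le_rfl (linForm a) := by
    rw [eqn_eq, dehom_linForm, map_add, map_sum]
    congr 1
    refine Finset.sum_congr rfl fun l _ => ?_
    rw [map_mul]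
    rfl
  rw [heq] at h1
  rw [Set.image_singleton]
  change RingHom.Locally _ (algebraMap k (B ⧸ Ideal.span {eqn i j (i ⁻¹ᵁ chart r k j) le_rfl (linForm a)}))
  refine locally_of_forall n fun q hq => ?_
  refine h1 q hq ⟨1, fun h => hq.ne_top ((Ideal.eq_top_iff_one _).mpr ?_), ?_⟩
  · rwa [Ideal.mem_comap, map_one] at h
  · have hsm : Smooth (i ≫ CohB1.ProjSpace.toSpec r k) := SmoothOfRelativeDimension.smooth (n + 1) _
    have h2 : RingHom.Smooth (φ.comp MvPolynomial.C) := by
      rw [coordU_C]
      have h3 := (i ≫ CohB1.ProjSpace.toSpec r k).smooth_appLE (isAffineOpen_top _) hU le_top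
      exact (RingHom.Smooth.respectsIso.cancel_left_isIso (Scheme.ΓSpecIso (CommRingCat.of k)).inv
        ((i ≫ CohB1.ProjSpace.toSpec r k).appLE ⊤ U le_top)).mpr h3
    have h4 : Smooth (Spec.map (CommRingCat.ofHom (algebraMap k B))) :=
      (HasRingHomProperty.Spec_iff (P := @Smooth)).mpr h2
    rw [IsScalarTower.algebraMap_eq k B (Localization.Away (1 : B)), CommRingCat.ofHom_comp, Spec.map_comp]
    infer_instance

/-- Bertini over an infinite field: there is a hyperplane section smooth of relative dimension one less. -/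
theorem exists_linForm [Infinite k] [IsClosedImmersion i] [IsIntegral X] (n : ℕ)
    [SmoothOfRelativeDimension (n + 1) (i ≫ CohB1.ProjSpace.toSpec r k)] :
    ∃ a : Fin (r + 1) → k, (linForm a).1 ≠ 0 ∧
      SmoothOfRelativeDimension n (secToSpec i {linForm a}) := by
  choose g hg0 hg using exists_poly i n
  have h0 : (MvPolynomial.X 0 * ∏ j, g j : MvPolynomial (Fin (r + 1)) k) ≠ 0 :=
    mul_ne_zero (MvPolynomial.X_ne_zero 0) (Finset.prod_ne_zero_iff.mpr fun j _ => hg0 j)
  obtain ⟨a, ha⟩ : ∃ a, MvPolynomial.eval a (MvPolynomial.X 0 * ∏ j, g j : MvPolynomial (Fin (r + 1)) k) ≠ 0 := by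
    by_contra hne
    push Not at hne
    exact h0 (MvPolynomial.funext fun a => by rw [hne a, map_zero])
  rw [map_mul, map_prod, MvPolynomial.eval_X] at ha
  refine ⟨a, fun h => ?_, smoothOfRelativeDimension_secToSpec i _ n fun j => ?_⟩
  · apply left_ne_zero_of_mul ha
    rw [← coeff_linForm a 0, h, MvPolynomial.coeff_zero]
  · exact hg j a (Finset.prod_ne_zero_iff.mp (right_ne_zero_of_mul ha) j (Finset.mem_univ j))

end Groth.Agent.Sga7.H5.LinForm
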